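import Mathlib
import Cfsg.Agent.Recog.SC3Main
import Cfsg.Agent.Lyons.Tools
import Cfsg.Agent.NG.Basic

/-! Groups with one class of involutions and a self-centralizing element of order 6: basics. -/

set_option autoImplicit false
set_option linter.unusedSectionVars false

namespace Cfsg.Agent.Six

open Subgroup Cfsg Cfsg.Agent.PLocal Cfsg.Agent.PLocal.Amb Cfsg.Agent.Recog Cfsg.Agent.Lyons
open Cfsg.Agent.NG (qπ qI qπ_eq_one qπ_surj qπ_mem mem_qI qπ_mem_iff card_qI qI_normal qπ_comm)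
open scoped commutatorElement

variable {G : Type*} [Group G]

/-- `zy` is a self-centralizing element of order 6 and all involutions are conjugate -/
structure Hx (z y : G) : Prop where
  oz : orderOf z = 2
  oy : orderOf y = 3
  comm : Commute z y
  cent : ∀ g, Commute z g → Commute y g → ∃ a ∈ zpowers y, g = a ∨ g = z * a
  conj : ∀ a b : G, orderOf a = 2 → orderOf b = 2 → IsConj a b

theorem ord2 {a : G} (h : a * a = 1) (h1 : a ≠ 1) : orderOf a = 2 :=
  orderOf_eq_prime (by rw [pow_two, h]) h1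

theorem ord3 {a : G} (h : a ^ 3 = 1) (h1 : a ≠ 1) : orderOf a = 3 :=
  haveI := Fact.mk Nat.prime_three
  orderOf_eq_prime h h1

theorem not_three_of_two {R : Subgroup G} [Finite R] (hR : IsPGroup 2 R) : ¬ 3 ∣ Nat.card R := by
  obtain ⟨k, hk⟩ := IsPGroup.iff_card.1 hR
  rw [hk]
  intro h
  have := Nat.prime_three.dvd_of_dvd_pow h
  omega

theorem not_three_ord {R : Subgroup G} [Finite R] (hR : ¬ 3 ∣ Nat.card R) {g : G} (hg : g ∈ R) :
    ¬ 3 ∣ orderOf g := fun h => hR (h.trans (R.orderOf_dvd_natCard hg))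

theorem cardRel {A B : Subgroup G} (h : A ≤ B) : Nat.card A * A.relIndex B = Nat.card B := by
  rw [← card_mul_index (A.subgroupOf B), Nat.card_congr (subgroupOfEquivOfLe h).toEquiv]; rfl

theorem eq_of_card_le [Finite G] {A B : Subgroup G} (h : A ≤ B) (hc : Nat.card B ≤ Nat.card A) :
    A = B := eq_of_le_of_card_ge h hc

namespace Hx

variable [Finite G] {z y : G} (h : Hx z y)
include h

theorem z2 : z * z = 1 := by rw [← pow_two, ← h.oz, pow_orderOf_eq_one]
theorem z1 : z ≠ 1 := fun e => by have := h.oz; rw [e, orderOf_one] at this; omega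
theorem y3 : y ^ 3 = 1 := by rw [← h.oy, pow_orderOf_eq_one]
theorem y1 : y ≠ 1 := fun e => by have := h.oy; rw [e, orderOf_one] at this; omega
theorem zinv : z⁻¹ = z := inv_eq_of_mul_eq_one_right h.z2
theorem yC : y ∈ 𝐳[z] := mem_cent.2 h.comm
theorem zC : z ∈ 𝐳[z] := mem_cent.2 (Commute.refl z)
theorem twoZ : IsPGroup 2 (zpowers z) := NG.two_zpowers h.z2

theorem mem_z {g : G} : g ∈ zpowers z ↔ g = 1 ∨ g = z := by
  refine ⟨fun ⟨k, hk⟩ => ?_, fun e => e.elim (fun e => e ▸ one_mem _) fun e => e ▸ mem_zpowers z⟩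
  have h2 : z ^ (2 : ℤ) = 1 := by rw [zpow_two, h.z2]
  simp only at hk
  rw [← hk, ← Int.emod_add_mul_ediv k 2, zpow_add, zpow_mul, h2, one_zpow, mul_one]
  rcases Int.emod_two_eq_zero_or_one k with e | e <;> simp [e]

theorem card_z : Nat.card (zpowers z) = 2 := by rw [Nat.card_zpowers, h.oz]

theorem eq_of_three {g : G} (h1 : Commute z g) (h2 : Commute y g) (h3 : ¬ 3 ∣ orderOf g) :
    g = 1 ∨ g = z := by
  obtain ⟨a, ha, e⟩ := h.cent g h1 h2
  have a3 : a ^ 3 = 1 := by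
    obtain ⟨k, rfl⟩ := ha
    simp only
    rw [← zpow_natCast, ← zpow_mul, mul_comm, zpow_mul, zpow_natCast, h.y3, one_zpow]
  have za : Commute z a := by obtain ⟨k, rfl⟩ := ha; exact h.comm.zpow_right k
  have g2 : g ^ 2 = a ^ 2 := by
    rcases e with rfl | rfl
    · rfl
    · rw [za.mul_pow, pow_two z, h.z2, one_mul]
  have a1 : a = 1 := by
    by_contra hne
    have h4 : orderOf (g ^ 2) = 3 := ord3 (by rw [g2, ← pow_mul, mul_comm, pow_mul, a3, one_pow])
      fun e => hne (by rw [g2] at e; rw [← a3, pow_succ, e, one_mul])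
    exact h3 (h4 ▸ orderOf_pow_dvd 2)
  simpa [a1] using e

theorem cj (g : G) : Hx (g * z * g⁻¹) (g * y * g⁻¹) := by
  refine ⟨by rw [orderOf_conj', h.oz], by rw [orderOf_conj', h.oy], ?_, fun k h1 h2 => ?_, h.conj⟩
  · show _ = _
    rw [conj_mul, conj_mul, h.comm.eq]
  · obtain ⟨a, ⟨n, rfl⟩, e⟩ := h.cent (g⁻¹ * k * g)
      (show _ = _ by
        calc z * (g⁻¹ * k * g) = g⁻¹ * (g * z * g⁻¹ * k) * g := by group
          _ = g⁻¹ * k * g * z := by rw [h1.eq]; group)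
      (show _ = _ by
        calc y * (g⁻¹ * k * g) = g⁻¹ * (g * y * g⁻¹ * k) * g := by group
          _ = g⁻¹ * k * g * y := by rw [h2.eq]; group)
    refine ⟨(g * y * g⁻¹) ^ n, ⟨n, rfl⟩, ?_⟩
    rw [conj_zpow]
    simp only at e
    rcases e with e | e
    · left; rw [← e]; group
    · right; rw [conj_mul, ← e]; group

theorem inv : Hx z y⁻¹ :=
  ⟨h.oz, by rw [orderOf_inv, h.oy], h.comm.inv_right, fun g h1 h2 => by
    rw [zpowers_inv]; exact h.cent g h1 (by simpa using h2.inv_left), h.conj⟩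

theorem syl3 : IsSyl 3 (zpowers y) 𝐳[z] := by
  have := Fact.mk Nat.prime_three
  have hp : IsPGroup 3 (zpowers y) := isPGroup_zpowers ⟨1, by simpa using h.y3⟩
  obtain ⟨P, hP, hle⟩ := exists_isSyl_ge hp (zpowers_le.2 h.yC)
  suffices e : zpowers y = P by rwa [e]
  refine eq_of_inf_normalizer_le hP.pgrp hle fun g hg => ?_
  obtain ⟨k, hk⟩ := isPGroup_iff.1 hP.pgrp g hg.1
  have hc : Commute y g := by
    rcases mem_zpowers_three h.oy (conj_mem_of_mem_normalizer hg.2 (mem_zpowers y)) with e | e | e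
    · exact absurd (by simpa using e) h.y1
    · exact comm_of_conj_eq e
    · have h1 : Commute y (g ^ 2) := comm_of_conj_eq (by
        rw [pow_two, show g * g * y * (g * g)⁻¹ = g * (g * y * g⁻¹) * g⁻¹ by group, e, ← conj_inv, e,
          inv_inv])
      obtain ⟨m, hm⟩ : Odd (3 ^ k) := Odd.pow (by decide)
      have h2 : g = (g ^ 2) ^ (m + 1) := by
        rw [← pow_mul, show 2 * (m + 1) = 3 ^ k + 1 by omega, pow_succ, hk, one_mul]
      rw [h2]
      exact h1.pow_right _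
  obtain ⟨a, ha, e | e⟩ := h.cent g (mem_cent.1 (hP.le hg.1)) hc
  · exact e ▸ ha
  · have h1 : z ∈ P := by
      have := P.mul_mem hg.1 (P.inv_mem (hle ha))
      rwa [e, mul_inv_cancel_right] at this
    exact absurd (eq_one_of_isPGroup_of_coprime hP.pgrp h1 (by rw [h.oz]; decide)) h.z1

theorem exists_six {v : G} (hv : orderOf v = 2) : ∃ g : G, g * z * g⁻¹ = v ∧ Hx v (g * y * g⁻¹) := by
  obtain ⟨g, hg⟩ := isConj_iff.1 (h.conj z v h.oz hv)
  exact ⟨g, hg, hg ▸ h.cj g⟩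

theorem of_comm {v x : G} (hv : orderOf v = 2) (hx : orderOf x = 3) (hc : Commute v x) : Hx v x := by
  have := Fact.mk Nat.prime_three
  obtain ⟨g, -, h'⟩ := h.exists_six hv
  obtain ⟨c, hc1, hc2⟩ := h'.syl3.exists_cj_le (R := zpowers x)
    (isPGroup_zpowers ⟨1, by rw [pow_one, ← hx, pow_orderOf_eq_one]⟩) (zpowers_le.2 (mem_cent.2 hc))
  have e1 : c⁻¹ * v * c⁻¹⁻¹ = v := conj_eq_of_comm (mem_cent.1 hc1).inv_right
  have e2 : c⁻¹ * (c * x * c⁻¹) * c⁻¹⁻¹ = x := by group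
  rcases mem_zpowers_three h'.oy (hc2 (conj_mem_cj c (mem_zpowers x))) with e | e | e
  · exact absurd (by simpa using e) (ne_one_of_orderOf_three hx)
  · have := h'.cj c⁻¹
    rwa [e1, ← e, e2] at this
  · have := h'.inv.cj c⁻¹
    rwa [e1, ← e, e2] at this

/-- a subgroup centralizing two commuting involutions is a `3'`-group -/
theorem not_three {a b : G} (ha : orderOf a = 2) (hb : orderOf b = 2) (hab : Commute a b)
    (hne : a ≠ b) {H : Subgroup G} (h1 : H ≤ 𝐳[a]) (h2 : H ≤ 𝐳[b]) : ¬ 3 ∣ Nat.card H := by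
  intro h3
  have := Fact.mk Nat.prime_three
  obtain ⟨x, hx⟩ := exists_prime_orderOf_dvd_card' 3 h3
  have hx' : orderOf (x : G) = 3 := by rw [orderOf_coe, hx]
  rcases (h.of_comm ha hx' (mem_cent.1 (h1 x.2))).eq_of_three hab (mem_cent.1 (h2 x.2)).symm
    (by rw [hb]; decide) with e | e
  · rw [e, orderOf_one] at hb; omega
  · exact hne e.symm

theorem fix2 {R : Subgroup G} (hR : IsPGroup 2 R) (hz : z ∈ R) {g : G} (hg : g ∈ R)
    (hc : Commute y g) : g = 1 ∨ g = z := by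
  have h0 : IsPGroup 2 ↥(R ⊓ 𝐳[y]) := hR.to_le inf_le_left
  have hz0 : z ∈ R ⊓ 𝐳[y] := ⟨hz, mem_cent.2 h.comm.symm⟩
  obtain ⟨w, hw, w1⟩ := (ne_bot_iff_exists_ne_one.1 (inf_centralizer_ne_bot h0 h0 le_normalizer
    fun e => h.z1 (mem_bot.1 (e ▸ hz0)))).imp fun w e => And.intro w.2 e
  have h3 := not_three_of_two hR
  have e : (w : G) = z := (h.eq_of_three (hw.2 z hz0) (mem_cent.1 hw.1.2)
    (not_three_ord h3 hw.1.1)).resolve_left fun e => w1 (Subtype.ext e)
  exact h.eq_of_three (e ▸ (hw.2 g ⟨hg, mem_cent.2 hc⟩).symm) hc (not_three_ord h3 hg)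

theorem env {T : Subgroup G} (hT : IsPGroup 2 T) (hz : z ∈ T) {g : G} (hg : g ∈ 𝐍[T])
    (hc : Commute y g) : Commute z g := by
  refine comm_of_conj_eq ((h.fix2 hT hz (conj_mem_of_mem_normalizer hg hz) ?_).resolve_left
    (by simpa using h.z1))
  exact (hc.mul_right h.comm.symm).mul_right hc.inv_right

theorem card_mod {D : Subgroup G} (hy : y ∈ 𝐍[D]) (hz : z ∈ D)
    (hf : ∀ g ∈ D, Commute y g → g = 1 ∨ g = z) : Nat.card D % 3 = 2 := by
  have := Fact.mk Nat.prime_three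
  have h1 := Grp.ConjCount.card_modEq (p := 3) (P := zpowers y)
    (isPGroup_zpowers ⟨1, by simpa using h.y3⟩) (D : Set G)
    (fun g hg x hx => conj_mem_of_mem_normalizer (zpowers_le.2 hy hg) hx)
  have h2 : Nat.card {x : G // x ∈ (D : Set G) ∧ x ∈ centralizer (zpowers y : Set G)} = 2 := by
    rw [← h.card_z]
    refine Nat.card_congr (Equiv.subtypeEquivRight fun x => ?_)
    rw [h.mem_z, Amb.centralizer_zpowers, mem_cent]
    refine ⟨fun e => hf x e.1 e.2, ?_⟩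
    rintro (rfl | rfl)
    exacts [⟨one_mem _, Commute.one_right _⟩, ⟨hz, h.comm.symm⟩]
  rw [h2] at h1
  exact h1

theorem card2 {R : Subgroup G} (hR : IsPGroup 2 R) (hz : z ∈ R) (hy : y ∈ 𝐍[R]) :
    Nat.card R % 3 = 2 := h.card_mod hy hz fun _ hg hc => h.fix2 hR hz hg hc

theorem fix3 {T D : Subgroup G} (hT : IsPGroup 2 T) (hz : z ∈ T) (hn : D ≤ 𝐍[T])
    (h3 : ¬ 3 ∣ Nat.card D) {g : G} (hg : g ∈ D) (hc : Commute y g) : g = 1 ∨ g = z :=
  h.eq_of_three (h.env hT hz (hn hg) hc) hc (not_three_ord h3 hg)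

theorem card3 {T D : Subgroup G} (hT : IsPGroup 2 T) (hz : z ∈ T) (hn : D ≤ 𝐍[T]) (hzD : z ∈ D)
    (h3 : ¬ 3 ∣ Nat.card D) (hy : y ∈ 𝐍[D]) : Nat.card D % 3 = 2 :=
  h.card_mod hy hzD fun _ hg hc => h.fix3 hT hz hn h3 hg hc

theorem C_le_N : 𝐳[z] ≤ 𝐍[zpowers z] := Amb.centralizer_zpowers z ▸ centralizer_le_normalizer' _

section quot

variable {Y T : Subgroup G} [(T.subgroupOf Y).Normal] (hT : IsPGroup 2 T) (hz : z ∈ T)
  (hn : Y ≤ 𝐍[T]) (hy : y ∈ Y)
include hT hz hn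

theorem sc3 (hTY : T ≤ Y) : SC3 (qπ Y T ⟨y, hy⟩) := by
  have := Fact.mk Nat.prime_three
  have h3 := not_three_of_two hT
  refine ⟨orderOf_eq_prime (by rw [← map_pow, show (⟨y, hy⟩ : Y) ^ 3 = 1 from Subtype.ext h.y3,
    map_one]) (fun e => not_three_ord h3 (qπ_eq_one.1 e) (by rw [h.oy])), fun g hg => ?_⟩
  obtain ⟨g, rfl⟩ := qπ_surj g
  obtain ⟨n, hn1, h1⟩ := Solv.coprime_fixed_coset' (zpowers y) T (zpowers_le.2 (hn hy))
    (by rw [Nat.card_zpowers, h.oy]; exact (Nat.Prime.coprime_iff_not_dvd Nat.prime_three).2 h3)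
    (Or.inl inferInstance) g (by
      rintro _ ⟨k, rfl⟩
      have e : qπ Y T (g⁻¹ * ((⟨y, hy⟩ : Y) ^ k * g * ((⟨y, hy⟩ : Y) ^ k)⁻¹)) = 1 := by
        simp only [map_mul, map_inv, map_zpow]
        rw [(hg.zpow_left k).eq]; group
      simpa using qπ_eq_one.1 e)
  rw [Amb.centralizer_zpowers, mem_cent] at h1
  obtain ⟨a, ⟨k, rfl⟩, e⟩ := h.cent _ (h.env hT hz (hn (mul_mem g.2 (hTY hn1))) h1) h1
  refine ⟨k, ?_⟩
  have e1 : qπ Y T ⟨n, hTY hn1⟩ = 1 := qπ_eq_one.2 hn1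
  have e2 : qπ Y T ⟨z, hTY hz⟩ = 1 := qπ_eq_one.2 hz
  simp only at e ⊢
  rw [← map_zpow, ← mul_one (qπ Y T g), ← e1, ← map_mul]
  rcases e with e | e
  · congr 1; exact Subtype.ext (by simpa using e.symm)
  · rw [← one_mul (qπ Y T _), ← e2, ← map_mul]
    congr 1; exact Subtype.ext (by simpa using e.symm)

omit h hT hz hn in
theorem qI_norm {D : Subgroup G} {g : Y} (hg : (g : G) ∈ 𝐍[D]) : qπ Y T g ∈ 𝐍[qI Y T D] := by
  refine mem_normalizer_of_cj_le (cj_le_iff_forall.2 ?_)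
  rintro _ ⟨d, hd, rfl⟩
  rw [← map_inv, ← map_mul, ← map_mul]
  exact qπ_mem (conj_mem_of_mem_normalizer hg hd)

theorem fpfq (hTY : T ≤ Y) {D : Subgroup G} (hD : D ≤ Y) (hyD : y ∈ 𝐍[D]) (h3 : ¬ 3 ∣ Nat.card D) :
    Fpf3 (qI Y T D) (qπ Y T ⟨y, hy⟩) :=
  (h.sc3 hT hz hn hy hTY).fpf ⟨qI_norm hyD, fun e => h3 (by
    rw [card_qI hD] at e
    exact e.trans (relIndex_dvd_card _ _))⟩

end quot

/-- Lemma V: an invariant `3'`-subgroup of `C(z)` with an involution `v ≠ z` contains `E₈` -/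
theorem exists_eight {P : Subgroup G} (hP : P ≤ 𝐳[z]) (h3 : ¬ 3 ∣ Nat.card P) (hz : z ∈ P)
    (hy : y ∈ 𝐍[P]) {v : G} (hv : v ∈ P) (v2 : v * v = 1) (v1 : v ≠ 1) (vz : v ≠ z) :
    ∃ V ≤ P, Nat.card V = 8 ∧ (∀ a ∈ V, a * a = 1) ∧ z ∈ V ∧ v ∈ V ∧ y ∈ 𝐍[V] := by
  have := normal_subgroupOf' h.C_le_N
  have hf := h.fpfq h.twoZ (mem_zpowers z) h.C_le_N h.yC (zpowers_le.2 h.zC) hP hy h3
  have h1 := hf.prod (qπ_mem (x := ⟨v, hP hv⟩) hv)
  rw [← map_inv, ← map_mul, ← map_mul, ← map_mul, ← map_mul, ← map_mul, ← map_mul, qπ_eq_one,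
    h.mem_z] at h1
  simp only [coe_mul, InvMemClass.coe_inv] at h1
  set w := y * v * y⁻¹ with hw
  set u := y⁻¹ * v * y with hu
  have wP : w ∈ P := conj_mem_of_mem_normalizer hy hv
  have uP : u ∈ P := inv_conj_mem_of_mem_normalizer hy hv
  have w2 : w * w = 1 := by rw [hw, conj_mul, v2]; group
  have u2 : u * u = 1 := by
    rw [hu, show y⁻¹ * v * y * (y⁻¹ * v * y) = y⁻¹ * (v * v) * y by group, v2]; group
  have zv : Commute z v := mem_cent.1 (hP hv)
  have zw : Commute z w := mem_cent.1 (hP wP)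
  have zu : Commute z u := mem_cent.1 (hP uP)
  have e1 : v * w = u ∨ v * w = z * u := by
    rcases h1 with e | e
    · left; rw [eq_inv_of_mul_eq_one_left e, inv_eq_of_mul_eq_one_right u2]
    · right; rw [eq_mul_inv_of_mul_eq e, inv_eq_of_mul_eq_one_right u2]
  have vw : Commute v w := by
    have : v * w * (v * w) = 1 := by
      rcases e1 with e | e
      · rw [e, u2]
      · rw [e, zu.symm.mul_mul_mul_comm, h.z2, u2, one_mul]
    show v * w = w * v
    rw [eq_inv_of_mul_eq_one_left this, mul_inv_rev, inv_eq_of_mul_eq_one_right v2,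
      inv_eq_of_mul_eq_one_right w2]
  have yy : y * y = y⁻¹ := eq_inv_of_mul_eq_one_left (by rw [← h.y3, pow_three'])
  let V : Subgroup G := closure {z, v, w}
  have zV : z ∈ V := subset_closure (by simp)
  have vV : v ∈ V := subset_closure (by simp)
  have wV : w ∈ V := subset_closure (by simp)
  have uV : u ∈ V := by
    rcases e1 with e | e
    · exact e ▸ mul_mem vV wV
    · have := mul_mem zV (mul_mem vV wV)
      rwa [e, ← mul_assoc, h.z2, one_mul] at this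
  have VP : V ≤ P := (closure_le P).2 (by
    rintro _ (rfl | rfl | rfl); exacts [hz, hv, wP])
  have yV : y ∈ 𝐍[V] := by
    refine mem_normalizer_of_cj_le (cj_le_iff.2 ((closure_le _).2 ?_))
    rintro _ (rfl | rfl | rfl) <;> rw [SetLike.mem_coe, mem_cj, inv_inv]
    · rw [conj_eq_of_comm h.comm]; exact zV
    · exact wV
    · rw [hw, show y * (y * v * y⁻¹) * y⁻¹ = y * y * v * (y * y)⁻¹ by group, yy, inv_inv]
      exact uV
  have mem : ∀ a ∈ V, ∃ i j k : Fin 2, a = z ^ (i : ℕ) * v ^ (j : ℕ) * w ^ (k : ℕ) := by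
    intro a ha
    have p2 : ∀ (c : G), c * c = 1 → ∀ i j : Fin 2, c ^ (i : ℕ) * c ^ (j : ℕ) = c ^ ((i + j : Fin 2) : ℕ) := by
      intro c hc i j
      fin_cases i <;> fin_cases j <;> simp [hc]
    induction ha using closure_induction with
    | mem x hx =>
      rcases hx with rfl | rfl | rfl
      exacts [⟨1, 0, 0, by simp⟩, ⟨0, 1, 0, by simp⟩, ⟨0, 0, 1, by simp⟩]
    | one => exact ⟨0, 0, 0, by simp⟩
    | mul a b _ _ ha hb =>
      obtain ⟨i, j, k, rfl⟩ := ha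
      obtain ⟨i', j', k', rfl⟩ := hb
      refine ⟨i + i', j + j', k + k', ?_⟩
      rw [← p2 z h.z2, ← p2 v v2, ← p2 w w2,
        (((zw.pow_pow i' k).symm.mul_right ((vw.pow_pow j' k).symm))).mul_mul_mul_comm,
        (zv.pow_pow i' j).symm.mul_mul_mul_comm]
    | inv a _ ha =>
      obtain ⟨i, j, k, rfl⟩ := ha
      refine ⟨i, j, k, inv_eq_of_mul_eq_one_right ?_⟩
      rw [(((zw.pow_pow i k).symm.mul_right ((vw.pow_pow j k).symm))).mul_mul_mul_comm,
        (zv.pow_pow i j).symm.mul_mul_mul_comm, ← (Commute.refl z).mul_pow,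
        ← (Commute.refl v).mul_pow, ← (Commute.refl w).mul_pow, h.z2, v2, w2]
      simp
  have sq : ∀ a ∈ V, a * a = 1 := by
    intro a ha
    obtain ⟨i, j, k, rfl⟩ := mem a ha
    rw [(((zw.pow_pow i k).symm.mul_right ((vw.pow_pow j k).symm))).mul_mul_mul_comm,
      (zv.pow_pow i j).symm.mul_mul_mul_comm, ← (Commute.refl z).mul_pow,
      ← (Commute.refl v).mul_pow, ← (Commute.refl w).mul_pow, h.z2, v2, w2]
    simp
  refine ⟨V, VP, ?_, sq, zV, vV, yV⟩
  have hV : IsPGroup 2 V := isPGroup_iff.2 fun a ha => ⟨1, by rw [pow_one, pow_two, sq a ha]⟩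
  have c1 := h.card2 hV zV yV
  have c2 : Nat.card V ≤ 8 := by
    have : Nat.card V ≤ Nat.card (Fin 2 × Fin 2 × Fin 2) := by
      choose i j k e using mem
      refine Nat.card_le_card_of_injective (fun a : V => (i a a.2, j a a.2, k a a.2)) fun a b hab => ?_
      simp only [Prod.mk.injEq] at hab
      exact Subtype.ext (by rw [e a a.2, e b b.2, hab.1, hab.2.1, hab.2.2])
    simpa using this
  have c3 : 2 < Nat.card V := by
    rw [← h.card_z]
    refine lt_of_le_of_ne (card_le_of_le (zpowers_le.2 zV)) fun e => ?_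
    have := eq_of_card_le (zpowers_le.2 zV) e.ge
    rcases h.mem_z.1 (this ▸ vV) with e | e
    exacts [v1 e, vz e]
  obtain ⟨n, hn⟩ := IsPGroup.iff_card.1 hV
  rw [hn] at c1 c2 c3 ⊢
  have : n ≤ 3 := (Nat.pow_le_pow_iff_right (by norm_num)).1 (c2.trans_eq (by norm_num : 8 = 2 ^ 3))
  interval_cases n <;> simp_all

end Hx

end Cfsg.Agent.Six
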