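import Mathlib
import Cfsg.Agent.Six.Basic
import Cfsg.Agent.Solv.Wielandt
import Cfsg.Agent.Solv.CoprimeSylow
import Cfsg.Agent.Char.Burnside

/-! The Feit-Thompson trichotomy for the sections `Y/T`, pulled back to the ambient group. -/

set_option autoImplicit false
set_option linter.unusedSectionVars false

namespace Cfsg.Agent.Six

open Subgroup Cfsg Cfsg.Agent.PLocal Cfsg.Agent.PLocal.Amb Cfsg.Agent.Recog Cfsg.Agent.Lyons
open Cfsg.Agent.NG (qπ qI qπ_eq_one qπ_surj qπ_mem mem_qI qπ_mem_iff card_qI qI_normal qπ_comm)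
open scoped commutatorElement

variable {G : Type*} [Group G] [Finite G]

section pull

variable {Y T : Subgroup G} [(T.subgroupOf Y).Normal]

/-- preimage in `G` of a subgroup of `Y/T` -/
def pull (A : Subgroup (Y ⧸ T.subgroupOf Y)) : Subgroup G := (A.comap (qπ Y T)).map Y.subtype

variable {A B : Subgroup (Y ⧸ T.subgroupOf Y)}

theorem mem_pull {g : Y} : (g : G) ∈ pull A ↔ qπ Y T g ∈ A := mem_map_subtype

theorem pull_le : pull A ≤ Y := map_subtype_le _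

theorem pull_mono (h : A ≤ B) : pull A ≤ pull B := map_mono (comap_mono h)

theorem le_pull (hTY : T ≤ Y) : T ≤ pull A := fun t ht =>
  (mem_pull (g := ⟨t, hTY ht⟩)).2 (by rw [qπ_eq_one.2 ht]; exact one_mem _)

theorem card_pull (hTY : T ≤ Y) : Nat.card (pull A) = Nat.card A * Nat.card T := by
  rw [pull, card_map_of_injective Y.subtype_injective, Grp.card_comap_mk',
    Nat.card_congr (subgroupOfEquivOfLe hTY).toEquiv, mul_comm]

theorem card_quot (hTY : T ≤ Y) : Nat.card Y = Nat.card (Y ⧸ T.subgroupOf Y) * Nat.card T := by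
  rw [card_eq_card_quotient_mul_card_subgroup (T.subgroupOf Y),
    Nat.card_congr (subgroupOfEquivOfLe hTY).toEquiv]

theorem pull_norm {g : Y} (hg : qπ Y T g ∈ 𝐍[A]) : (g : G) ∈ 𝐍[pull A] := by
  refine mem_normalizer_of_cj_le (cj_le_iff_forall.2 fun a ha => ?_)
  have := conj_mem_of_mem_normalizer hg ((mem_pull (g := ⟨a, pull_le ha⟩)).1 ha)
  rw [← map_inv, ← map_mul, ← map_mul] at this
  exact mem_pull.2 this

theorem pull_norm' (h : ⊤ ≤ 𝐍[A]) : Y ≤ 𝐍[pull A] := fun g hg =>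
  pull_norm (g := ⟨g, hg⟩) (h trivial)

theorem pull_qI {N : Subgroup G} (h1 : T ≤ N) (h2 : N ≤ Y) : pull (qI Y T N) = N := by
  ext g
  refine ⟨fun hg => ?_, fun hg => (mem_pull (g := ⟨g, h2 hg⟩)).2 (qπ_mem hg)⟩
  exact (qπ_mem_iff (inf_le_left.trans h1)).1 ((mem_pull (g := ⟨g, pull_le hg⟩)).1 hg)

theorem pull_top : pull (⊤ : Subgroup (Y ⧸ T.subgroupOf Y)) = Y :=
  le_antisymm pull_le fun g hg => (mem_pull (g := ⟨g, hg⟩)).2 trivial

theorem pull_two (hTY : T ≤ Y) (hT : IsPGroup 2 T) (hA : IsPGroup 2 A) : IsPGroup 2 (pull A) := by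
  obtain ⟨i, hi⟩ := IsPGroup.iff_card.1 hT
  obtain ⟨j, hj⟩ := IsPGroup.iff_card.1 hA
  exact IsPGroup.of_card (n := j + i) (by rw [card_pull hTY, hi, hj, pow_add])

theorem max_pull (hTY : T ≤ Y) (hmax : ∀ N, A ≤ N → N ≤ ⊤ → ⊤ ≤ 𝐍[N] → N = A ∨ N = ⊤)
    (N : Subgroup G) (h1 : pull A ≤ N) (h2 : N ≤ Y) (h3 : Y ≤ 𝐍[N]) : N = pull A ∨ N = Y := by
  have h4 := (le_pull hTY).trans h1
  have := qI_normal (C := T) h3
  rcases hmax (qI Y T N) (fun a ha => by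
    obtain ⟨a, rfl⟩ := qπ_surj a
    exact qπ_mem (h1 (mem_pull.2 ha))) le_top (by rw [normalizer_eq_top]) with e | e
  · left; rw [← e, pull_qI h4 h2]
  · right; rw [← pull_qI h4 h2, e, pull_top]

end pull

theorem solv_ext {H : Type*} [Group H] (N : Subgroup H) [N.Normal] (h1 : Group.IsSolvable N)
    (h2 : Group.IsSolvable (H ⧸ N)) : Group.IsSolvable H :=
  Group.isSolvable_of_ker_le_range N.subtype (QuotientGroup.mk' N) (by simp)

/-- the solvable case -/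
def PI (Y T : Subgroup G) : Prop :=
  ∃ L P : Subgroup G, T ≤ P ∧ L ≤ Y ∧ Y ≤ 𝐍[L] ∧ Y ≤ 𝐍[P] ∧ IsSyl 2 P L ∧ ¬ 3 ∣ Nat.card L ∧
    (Nat.card Y = 3 * Nat.card L ∨ Nat.card Y = 6 * Nat.card L) ∧
    (∀ a ∈ L, Odd (orderOf a) → ∀ q ∈ P, ⁅a, q⁆ ∈ T) ∧ Group.IsSolvable Y

/-- the `A₅` case -/
def PII (y : G) (Y T : Subgroup G) : Prop :=
  ∃ E D : Subgroup G, T ≤ E ∧ E ≤ D ∧ D ≤ Y ∧ Y ≤ 𝐍[E] ∧ IsPGroup 2 E ∧ IsPGroup 2 D ∧
    Nat.card Y = 60 * Nat.card E ∧ (∀ N, E ≤ N → N ≤ Y → Y ≤ 𝐍[N] → N = E ∨ N = Y) ∧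
    y ∈ 𝐍[D] ∧ Nat.card D = 4 * Nat.card E

/-- the `L₃(2)` case -/
def PIII (y : G) (Y T : Subgroup G) : Prop :=
  Nat.card Y = 168 * Nat.card T ∧ (∀ N, T ≤ N → N ≤ Y → Y ≤ 𝐍[N] → N = T ∨ N = Y) ∧
    (∃ D, T ≤ D ∧ D ≤ Y ∧ y ∈ 𝐍[D] ∧ Nat.card D = 7 * Nat.card T) ∧
    ∃ D, T ≤ D ∧ D ≤ Y ∧ y ∈ 𝐍[D] ∧ Nat.card D = 4 * Nat.card T

namespace Hx

variable {z y : G} (h : Hx z y)
include h

theorem pb {Y T : Subgroup G} (hT : IsPGroup 2 T) (hz : z ∈ T) (hn : Y ≤ 𝐍[T]) (hy : y ∈ Y)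
    (hTY : T ≤ Y) : PI Y T ∨ PII y Y T ∨ PIII y Y T := by
  have := normal_subgroupOf' hn
  have hs := h.sc3 hT hz hn hy hTY
  have cY := card_quot hTY
  have t3 := not_three_of_two hT
  have tp : 0 < Nat.card T := Nat.card_pos
  rcases hs.main with ⟨L, -, h1, h2, h3⟩ | ⟨E, -, h1, h2, h3, h4, h5, D, h6, -, h7, h8⟩ |
    ⟨h1, h2, ⟨D, h3, h4⟩, D', h5, h6⟩
  · have hnil := (hs.fpf ⟨h1 trivial, h2⟩).isNilpotent
    have hP := Solv.NA.isSyl_pCoreOf (p := 2) hnil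
    rw [card_top] at h3
    refine Or.inl ⟨pull L, pull (pCoreOf 2 L), le_pull hTY, pull_le, pull_norm' h1,
      pull_norm' (h1.trans (normalizer_le_normalizer_pCoreOf 2 L)),
      isSyl_of_not_dvd_relIndex (pull_two hTY hT hP.pgrp) (pull_mono hP.le) fun hd => ?_, ?_, ?_,
      fun a ha ho q hq => ?_, ?_⟩
    · have e1 := cardRel (pull_mono hP.le)
      rw [card_pull hTY, card_pull hTY, ← cardRel hP.le, mul_right_comm] at e1
      have e2 := Nat.eq_of_mul_eq_mul_left Nat.card_pos (Nat.eq_of_mul_eq_mul_right tp e1)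
      exact hP.not_dvd_relIndex (e2 ▸ hd)
    · rw [card_pull hTY]
      exact fun hd => (Nat.prime_three.dvd_mul.1 hd).elim h2 t3
    · rw [cY, card_pull hTY]
      rcases h3 with e | e <;> rw [e, mul_assoc] <;> simp
    · refine (qπ_comm (x := ⟨a, pull_le ha⟩) (y := ⟨q, pull_le hq⟩)).2 ?_
      have m2 := (mem_pull (g := ⟨q, pull_le hq⟩)).1 hq
      refine Solv.NA.commute_of_mem hnil ((mem_pull (g := ⟨a, pull_le ha⟩)).1 ha) (hP.le m2)
        (Solv.NA.coprime_orderOf_of_isPGroup hP.pgrp m2 (Nat.coprime_two_right.2 ?_))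
      exact Odd.of_dvd_nat (by rwa [← orderOf_coe]) (orderOf_map_dvd _ _)
    · have : L.Normal := normalizer_eq_top_iff.1 (top_le_iff.1 h1)
      refine solv_ext (T.subgroupOf Y) (Solv.isSolvable_of_isPGroup (Amb.isPGroup_subgroupOf hT Y))
        (solv_ext L inferInstance (Char.isSolvable_of_card_dvd_pow_mul_pow (a := 1) (b := 1)
          Nat.prime_two Nat.prime_three _ ?_))
      rw [card_eq_card_quotient_mul_card_subgroup L] at h3
      rcases h3 with e | e <;> rw [Nat.eq_of_mul_eq_mul_right Nat.card_pos e] <;> norm_num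
  · have hE : IsPGroup 2 E := isPGroup_iff.2 fun a ha => ⟨1, h3 a ha⟩
    obtain ⟨k, hk⟩ := IsPGroup.iff_card.1 hE
    rw [card_top] at h4
    refine Or.inr (Or.inl ⟨pull E, pull D, le_pull hTY, pull_mono h6, pull_le, pull_norm' h1,
      pull_two hTY hT hE, pull_two hTY hT (IsPGroup.of_card (n := k + 2) (by rw [h8, hk]; ring)), ?_,
      max_pull hTY h5, pull_norm (g := ⟨y, hy⟩) h7, ?_⟩)
    · rw [cY, card_pull hTY, h4, mul_assoc]
    · rw [card_pull hTY, card_pull hTY, h8, mul_assoc]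
  · refine Or.inr (Or.inr ⟨by rw [cY, h2], fun N a b c => ?_,
      ⟨pull D, le_pull hTY, pull_le, pull_norm (g := ⟨y, hy⟩) h3.1, by rw [card_pull hTY, h4]⟩,
      pull D', le_pull hTY, pull_le, pull_norm (g := ⟨y, hy⟩) h5.1, by rw [card_pull hTY, h6]⟩)
    have e : pull (⊥ : Subgroup (Y ⧸ T.subgroupOf Y)) = T :=
      (eq_of_card_le (le_pull hTY) (by rw [card_pull hTY]; simp)).symm
    have := max_pull (A := ⊥) hTY (fun N _ _ hN =>
      (normalizer_eq_top_iff.1 (top_le_iff.1 hN)).eq_bot_or_eq_top) N (e.le.trans a) b c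
    rwa [e] at this

/-- Lemma F -/
theorem card_eight (hC : ∃ k, Nat.card 𝐳[z] ∣ 2 ^ k * 15) {T D : Subgroup G} (hT : IsPGroup 2 T)
    (hz : z ∈ T) (hn : D ≤ 𝐍[T]) (hyT : y ∈ 𝐍[T]) (hyD : y ∈ 𝐍[D]) (h3 : ¬ 3 ∣ Nat.card D)
    (h2 : ¬ IsPGroup 2 D) : Nat.card T = 8 := by
  have := Fact.mk Nat.prime_three
  obtain ⟨p, hp, p2, hd⟩ := Solv.NA.exists_prime_ne_of_not_isPGroup h2
  have := Fact.mk hp
  have c3 : ∀ {K : Subgroup G}, ¬ 3 ∣ Nat.card K → (Nat.card (zpowers y)).Coprime (Nat.card K) :=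
    fun e => by rw [Nat.card_zpowers, h.oy]; exact (Nat.Prime.coprime_iff_not_dvd Nat.prime_three).2 e
  obtain ⟨P, hP⟩ := Solv.exists_invariant_sylow (zpowers y) D (zpowers_le.2 hyD) (c3 h3)
    (Or.inl inferInstance) p
  have hA := isSyl_map_subtype P
  set A := (P : Subgroup D).map D.subtype
  have A1 : A ≠ ⊥ := fun e => hA.eq_bot_iff.1 e hd
  obtain ⟨m, hm⟩ := IsPGroup.iff_card.1 hA.pgrp
  have A2 : (Nat.card A).Coprime 2 := by
    rw [hm]; exact ((Nat.coprime_primes hp Nat.prime_two).2 p2).pow_left m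
  have A3 : ¬ 3 ∣ Nat.card A := fun e => h3 (e.trans (card_dvd_of_le hA.le))
  have fp : Fpf3 A y := ⟨hP (mem_zpowers y), h.y3, fun a ha e => by
    refine (h.fix3 hT hz hn h3 (hA.le ha) (comm_of_conj_eq e).symm).resolve_right fun e => ?_
    have := A2.coprime_dvd_left (A.orderOf_dvd_natCard ha)
    rw [e, h.oz] at this
    simp at this⟩
  have cA : T ⊓ 𝐂[A] = ⊥ := by
    by_contra hne
    obtain ⟨w, hw⟩ := exists_prime_orderOf_dvd_card' 2
      (Solv.NA.dvd_card_of_ne_bot (hT.to_le inf_le_left) hne)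
    obtain ⟨g, hg, -⟩ := h.exists_six (v := (w : G)) (by rw [orderOf_coe, hw])
    obtain ⟨k, hk⟩ := hC
    have h1 : Nat.card A ∣ 2 ^ k * 15 := by
      refine (card_dvd_of_le (fun a ha => mem_cent.2 (w.2.2 a ha).symm : A ≤ 𝐳[(w : G)])).trans ?_
      rwa [← hg, centralizer_singleton_conj, card_cj]
    have h4 : Nat.card A ∣ 3 * 5 := (A2.pow_right k).dvd_of_dvd_mul_left h1
    have h5 := ((Nat.Prime.coprime_iff_not_dvd Nat.prime_three).2 A3).symm.dvd_of_dvd_mul_left h4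
    have h6 := fp.card_mod
    rcases (Nat.dvd_prime Nat.prime_five).1 h5 with e | e
    · exact A1 (card_eq_one.1 e)
    · omega
  have cU : Nat.card ↥(A ⊔ zpowers y) = 3 * Nat.card A := by
    rw [sup_comm, card_sup_zpowers h.oy ⟨fp.norm, A3⟩]
  obtain ⟨n, hn'⟩ := IsPGroup.iff_card.1 hT
  have key := Solv.Wielandt.frobenius_fixed_formula A (zpowers y) hP
    (Solv.isSolvable_of_isPGroup hA.pgrp) (fun e he e1 u hu hc => by
      rcases mem_zpowers_three h.oy he with e | e | e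
      · exact absurd e e1
      · exact fp.eq_one_of_commute hu (e ▸ hc)
      · exact fp.inv.eq_one_of_commute hu (e ▸ hc)) T
    (sup_le (hA.le.trans hn) (zpowers_le.2 hyT)) (Solv.isSolvable_of_isPGroup hT) (by
      rw [cU, hn']
      exact (Nat.Coprime.mul_right (by decide) A2.symm).pow_left n)
  have e1 : T ⊓ 𝐂[A ⊔ zpowers y] = ⊥ :=
    le_bot_iff.1 (cA ▸ inf_le_inf_left T (Amb.centralizer_anti le_sup_left))
  have e2 : T ⊓ 𝐂[zpowers y] = zpowers z := by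
    rw [Amb.centralizer_zpowers]
    exact le_antisymm (fun g hg => h.mem_z.2 (h.fix2 hT hz hg.1 (mem_cent.1 hg.2)))
      (zpowers_le.2 ⟨hz, mem_cent.2 h.comm.symm⟩)
  rw [e1, e2, cA, h.card_z, Nat.card_zpowers, h.oy] at key
  simpa using key

end Hx

end Cfsg.Agent.Six
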